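import Cfsg.Agent.H648.Loc.Value_m3
import Cfsg.Agent.H686.CharKit
import Cfsg.Agent.H707.GalTrace
import Cfsg.Agent.H996.AllSplit_m3
import Cfsg.Agent.H129.RealT_m3
import Cfsg.Agent.H129.DataG2
import Cfsg.Agent.S1092
import Cfsg.Agent.ChevalleyStructure.WeylData
import Cfsg.Agent.FastGrp
import Cfsg.Agent.Prune
set_option linter.all false
prune_inst 0x7f00000000000000000000000000000000000000000000000000000000000000000000000000000000000000000000000000000000000000000000000000000000000000000000000000000000000000003ffff7ffffffffffffffffffffffbeffbdefffffff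
open scoped Cfsg.Agent.FastGrp

/-!
# Elements of order seven of `G₂(4)`

* `isConj_seven` : in a group of order `251596800` an element of order seven with centraliser of order 21 is
  conjugate to every element of order seven;
* `nn_seven` : its class is not nilpotent modulo two (Steinberg character);
* `exists_seven` : such an element exists in `G₂(4)`.
-/

set_option autoImplicit false

open Cfsg
open scoped ComplexConjugate

namespace Cfsg.Agent.H686.Four.GTwoSeven

open Cfsg.Agent.H652.Four
open Cfsg.Agent.Characters.Core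
open Cfsg.Agent.Blocks

universe u

section

variable {K : Type u} [Group K] [Finite K]

theorem fact_seven : Fact (Nat.Prime 7) := ⟨by norm_num⟩

theorem card_sylow (hK : Nat.card K = 251596800) (Q : Sylow 7 K) : Nat.card Q = 7 := by
  have := fact_seven
  rw [Sylow.card_eq_multiplicity, hK, show (251596800 : ℕ) = 7 ^ 1 * 35942400 by norm_num,
    Nat.factorization_mul (by norm_num) (by norm_num), Nat.Prime.factorization_pow (by norm_num)]
  rw [Finsupp.add_apply, Finsupp.single_eq_same, Nat.factorization_eq_zero_of_not_dvd (by norm_num)]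
  norm_num

theorem exists_sylow (hK : Nat.card K = 251596800) {y : K} (hy : orderOf y = 7) :
    ∃ Q : Sylow 7 K, (Q : Subgroup K) = Subgroup.zpowers y := by
  have h7 := fact_seven
  have hp : IsPGroup 7 (Subgroup.zpowers y) := IsPGroup.of_card (n := 1) (by rw [Nat.card_zpowers, hy, pow_one])
  obtain ⟨Q, hQ⟩ := hp.exists_le_sylow
  refine ⟨Q, (Subgroup.eq_of_le_of_card_ge hQ ?_).symm⟩
  rw [Nat.card_zpowers, hy]
  exact (card_sylow hK Q).le

/-- The normalizer of `⟨y⟩` permutes the nontrivial elements transitively. -/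
theorem isConj_of_mem (hK : Nat.card K = 251596800) {y : K} (hy : orderOf y = 7)
    (hC : Nat.card (Subgroup.centralizer ({y} : Set K)) = 21) {z : K} (hz : z ∈ Subgroup.zpowers y) (h1 : z ≠ 1) :
    IsConj y z := by
  classical
  have h7 := fact_seven
  obtain ⟨Q, hQ⟩ := exists_sylow hK hy
  set P := Subgroup.zpowers y with hP
  set N := Subgroup.normalizer (P : Set K) with hN
  have hPN : P ≤ N := Subgroup.le_normalizer
  have hyP : y ∈ P := Subgroup.mem_zpowers y
  set y' : N := ⟨y, hPN hyP⟩ with hy'
  have hCN : Subgroup.centralizer ({y} : Set K) ≤ N := by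
    intro c hc
    rw [Subgroup.mem_centralizer_singleton_iff] at hc
    have hc' : Commute c y := hc
    rw [hN, Subgroup.mem_normalizer_iff]
    have key : ∀ h : K, h ∈ P → c * h * c⁻¹ = h := by
      rintro _ ⟨n, rfl⟩
      show c * y ^ n * c⁻¹ = y ^ n
      rw [(hc'.zpow_right n).eq]
      group
    intro h
    constructor
    · intro hh
      show c * h * c⁻¹ ∈ P
      rw [key h hh]
      exact hh
    · intro hh
      have h2 := key _ hh
      have h3 : c * h * c⁻¹ = h := by
        calc c * h * c⁻¹ = c⁻¹ * (c * (c * h * c⁻¹) * c⁻¹) * c := by group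
          _ = c⁻¹ * (c * h * c⁻¹) * c := by rw [h2]
          _ = h := by group
      have hh' : c * h * c⁻¹ ∈ P := hh
      rwa [h3] at hh'
  have := Fintype.ofFinite K
  have := Fintype.ofFinite N
  have hcl := CharKit.card_class_mul_centralizer y'
  have hCN' : Nat.card (Subgroup.centralizer ({y'} : Set N)) = 21 := by
    rw [← hC]
    have e : (Subgroup.centralizer ({y} : Set K)).subgroupOf N = Subgroup.centralizer ({y'} : Set N) := by
      ext c
      rw [Subgroup.mem_subgroupOf, Subgroup.mem_centralizer_singleton_iff, Subgroup.mem_centralizer_singleton_iff]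
      constructor
      · intro h
        exact Subtype.ext h
      · intro h
        exact congrArg Subtype.val h
    rw [← e]
    exact Nat.card_congr (Subgroup.subgroupOfEquivOfLe hCN).toEquiv
  have hn := card_sylow_modEq_one 7 K
  have hn2 : Nat.card (Sylow 7 K) = N.index := by
    rw [Q.card_eq_index_normalizer, hN, ← hQ]
    rfl
  have hidx := N.card_mul_index
  rw [hCN'] at hcl
  rw [← hn2, hK, ← hcl] at hidx
  -- the nontrivial elements of `P`
  set Φ : Finset N := Finset.univ.filter fun n => (n : K) ∈ P ∧ n ≠ 1 with hΦ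
  have hsub : (Finset.univ.filter fun n : N => IsConj y' n) ⊆ Φ := by
    intro n hn
    rw [Finset.mem_filter] at hn
    obtain ⟨c, hc⟩ := isConj_iff.1 hn.2
    rw [hΦ, Finset.mem_filter]
    refine ⟨Finset.mem_univ _, ?_, ?_⟩
    · rw [← hc]
      have h3 : ∀ c : K, c ∈ N → c * y * c⁻¹ ∈ P := by
        intro c hc
        rw [hN, Subgroup.mem_normalizer_iff] at hc
        exact (hc y).1 hyP
      exact h3 c c.2
    · rintro rfl
      have h3 : y' = 1 := by
        calc y' = c⁻¹ * (c * y' * c⁻¹) * c := by group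
          _ = 1 := by rw [hc]; group
      have h4 : y = 1 := congrArg Subtype.val h3
      rw [h4, orderOf_one] at hy
      norm_num at hy
  have hΦ6 : Φ.card = 6 := by
    have h3 : (insert (1 : N) Φ).card = 7 := by
      have h4 : ((insert (1 : N) Φ : Finset N) : Set N) = ((P.subgroupOf N : Subgroup N) : Set N) := by
        ext n
        rw [Finset.coe_insert, Set.mem_insert_iff, Finset.mem_coe, hΦ, Finset.mem_filter, SetLike.mem_coe,
          Subgroup.mem_subgroupOf]
        constructor
        · rintro (rfl | h)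
          · exact P.one_mem
          · exact h.2.1
        · intro h
          by_cases h5 : n = 1
          · exact Or.inl h5
          · exact Or.inr ⟨Finset.mem_univ _, h, h5⟩
      rw [← Set.ncard_coe_finset, h4, ← Nat.card_coe_set_eq]
      show Nat.card (P.subgroupOf N) = 7
      rw [Nat.card_congr (Subgroup.subgroupOfEquivOfLe hPN).toEquiv, hP, Nat.card_zpowers, hy]
    rw [Finset.card_insert_of_notMem] at h3
    · omega
    · rw [hΦ, Finset.mem_filter]
      exact fun h => h.2.2 rfl
  have hle := Finset.card_le_card hsub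
  rw [hΦ6] at hle
  have he : (Finset.univ.filter fun n : N => IsConj y' n).card = 6 := by
    generalize (Finset.univ.filter fun n : N => IsConj y' n).card = e at hle hidx
    generalize Nat.card (Sylow 7 K) = n at hn hidx
    have h3 : e * n = 11980800 := by nlinarith
    have h4 : n % 7 = 1 := hn
    have h5 : (e * n) % 7 = 6 := by rw [h3]
    rw [Nat.mul_mod, h4] at h5
    omega
  have heq := Finset.eq_of_subset_of_card_le hsub (by rw [he, hΦ6])
  have hz' : (⟨z, hPN hz⟩ : N) ∈ Φ := by
    rw [hΦ, Finset.mem_filter]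
    exact ⟨Finset.mem_univ _, hz, fun h => h1 (congrArg Subtype.val h)⟩
  rw [← heq, Finset.mem_filter] at hz'
  exact N.subtype.map_isConj hz'.2

/-- **All elements of order seven are conjugate.** -/
theorem isConj_seven (hK : Nat.card K = 251596800) {y : K} (hy : orderOf y = 7)
    (hC : Nat.card (Subgroup.centralizer ({y} : Set K)) = 21) {z : K} (hz : orderOf z = 7) : IsConj y z := by
  have h7 := fact_seven
  obtain ⟨P, hP⟩ := exists_sylow hK hy
  obtain ⟨Q, hQ⟩ := exists_sylow hK hz
  obtain ⟨g, hg⟩ := MulAction.exists_smul_eq K Q P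
  have h2 : g * z * g⁻¹ ∈ Subgroup.zpowers y := by
    rw [← hP, ← hg]
    show g * z * g⁻¹ ∈ g • Q
    rw [Sylow.smul_def]
    exact ⟨z, by rw [SetLike.mem_coe]; show z ∈ (Q : Subgroup K); rw [hQ]; exact Subgroup.mem_zpowers z, rfl⟩
  have h3 : g * z * g⁻¹ ≠ 1 := by
    intro h
    have h4 : z = 1 := by
      calc z = g⁻¹ * (g * z * g⁻¹) * g := by group
        _ = 1 := by rw [h]; group
    rw [h4, orderOf_one] at hz
    norm_num at hz
  exact (isConj_of_mem hK hy hC h2 h3).trans (isConj_iff.2 ⟨g⁻¹, by group⟩)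

/-- multiplicities are natural numbers -/
theorem exists_nat_inner [Fintype K] {π : K → ℂ} (hπ : IsCharacter K π) (χ : IrrCharacter K) :
    ∃ k : ℕ, classInner π (χ : K → ℂ) = k := by
  have := finite_irr (G := K)
  have := Fintype.ofFinite (IrrCharacter K)
  obtain ⟨m, hm⟩ := isCharacter_iff.1 hπ
  refine ⟨m χ, ?_⟩
  rw [hm, classInner_sum_nsmul_irr]

theorem exists_int_of_rat {q : ℚ} (h : IsIntegral ℤ (q : ℂ)) : ∃ n : ℤ, q = n := by
  have h1 : IsIntegral ℤ (algebraMap ℚ ℂ q) := by simpa using h
  have h2 := (isIntegral_algebraMap_iff (algebraMap ℚ ℂ).injective).1 h1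
  obtain ⟨n, hn⟩ := IsIntegrallyClosed.isIntegral_iff.1 h2
  exact ⟨n, by rw [← hn]; simp⟩

/-- The value of the Steinberg character. -/
theorem value_seven (hK : Nat.card K = 251596800) {y : K} (hy : orderOf y = 7)
    (hC : Nat.card (Subgroup.centralizer ({y} : Set K)) = 21) {θ : K → ℂ} (hθ : IsIrrCharacter K θ)
    (hrat : ∃ q : ℚ, θ y = q) (h1 : θ 1 = 4096) : θ y = 1 := by
  classical
  have h7 := fact_seven
  have := Fintype.ofFinite K
  have := finite_irr (G := K)
  have := Fintype.ofFinite (IrrCharacter K)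
  have := Fintype.ofFinite (Subgroup.zpowers y)
  obtain ⟨q, hq⟩ := hrat
  obtain ⟨n, hn⟩ := exists_int_of_rat (q := q) (by rw [← hq]; exact DefectCard.isIntegral_irr hθ y)
  have hn : θ y = n := by rw [hq, hn]; simp
  -- the bound
  have hb : (n : ℝ) ^ 2 ≤ 21 := by
    have h2 := CharKit.sum_normSq y
    rw [hC] at h2
    have h3 : Complex.normSq (θ y) ≤ ∑ χ : IrrCharacter K, Complex.normSq ((χ : K → ℂ) y) :=
      Finset.single_le_sum (f := fun χ : IrrCharacter K => Complex.normSq ((χ : K → ℂ) y))
        (fun χ _ => Complex.normSq_nonneg _) (Finset.mem_univ (⟨θ, hθ⟩ : IrrCharacter K))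
    rw [h2, hn, Complex.normSq_intCast] at h3
    norm_num at h3
    nlinarith
  have hb' : n ^ 2 ≤ 21 := by exact_mod_cast hb
  -- the congruence
  obtain ⟨k, hk⟩ := exists_nat_inner (isCharacter_comp (Subgroup.zpowers y).subtype (isIrr_isCharacter hθ))
    ⟨1, isIrr_one (G := Subgroup.zpowers y)⟩
  have hsum : ∑ z : Subgroup.zpowers y, θ (z : K) = 4096 + 6 * n := by
    rw [← Finset.add_sum_erase Finset.univ _ (Finset.mem_univ (1 : Subgroup.zpowers y))]
    have h2 : ∀ z ∈ Finset.univ.erase (1 : Subgroup.zpowers y), θ (z : K) = n := by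
      intro z hz
      rw [← hn]
      exact (Blocks.Basic.irr_isConj hθ (isConj_of_mem hK hy hC z.2
        fun h => (Finset.ne_of_mem_erase hz) (Subtype.ext h))).symm
    rw [Finset.sum_congr rfl h2, Finset.sum_const, Finset.card_erase_of_mem (Finset.mem_univ _), Finset.card_univ,
      ← Nat.card_eq_fintype_card, Nat.card_zpowers, hy]
    show θ ((1 : Subgroup.zpowers y) : K) + _ = _
    rw [Subgroup.coe_one, h1]
    norm_num
  have hk' : (4096 + 6 * n : ℂ) = 7 * k := by
    rw [← hk, classInner_def, Nat.card_zpowers, hy, ← hsum]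
    have h2 : ∀ z : Subgroup.zpowers y, (θ ∘ (Subgroup.zpowers y).subtype) z * conj ((1 : Subgroup.zpowers y → ℂ) z) = θ (z : K) := by
      intro z
      simp
    simp only [h2]
    push_cast
    ring
  have hk2 : (4096 + 6 * n : ℤ) = 7 * k := by exact_mod_cast hk'
  have h3 : n = 1 := by
    have h4 : n ≤ 4 := by nlinarith
    have h5 : -4 ≤ n := by nlinarith
    omega
  rw [hn, h3]
  norm_num

/-- **The class is not nilpotent modulo two.** -/
theorem nn_seven (hK : Nat.card K = 251596800) (hS : FixBN.HasSplit 2 K) {y : K} (hy : orderOf y = 7)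
    (hC : Nat.card (Subgroup.centralizer ({y} : Set K)) = 21) {M : Ideal AlgInt} (hM : IsPModular 2 M) :
    NN M (cl y) := by
  have h2 : Fact (Nat.Prime 2) := ⟨Nat.prime_two⟩
  obtain ⟨θ, hθ, hrat, hQ⟩ := H707.GalTrace.exists_rat_of_hasSplit hS
  obtain ⟨Q⟩ : Nonempty (Sylow 2 K) := inferInstance
  have hQc : Nat.card Q = 4096 := by
    rw [Sylow.card_eq_multiplicity, hK, show (251596800 : ℕ) = 2 ^ 12 * 61425 by norm_num,
      Nat.factorization_mul (by norm_num) (by norm_num), Nat.Prime.factorization_pow (by norm_num)]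
    rw [Finsupp.add_apply, Finsupp.single_eq_same, Nat.factorization_eq_zero_of_not_dvd (by norm_num)]
    norm_num
  have h1 : θ 1 = 4096 := by rw [(hQ Q).1, hQc]; norm_num
  have hv := value_seven hK hy hC hθ (hrat y) h1
  have hidx : (Subgroup.centralizer ({y} : Set K)).index = 11980800 := by
    have := Subgroup.card_mul_index (Subgroup.centralizer ({y} : Set K))
    rw [hC, hK] at this
    omega
  refine NN.of_int hM ⟨θ, hθ⟩ (n := 2925) ?_ (by norm_num)
  rw [Blocks.Basic.centralChar_def]
  show ((Subgroup.centralizer ({y} : Set K)).index : ℂ) * θ y / θ 1 = _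
  rw [hidx, hv, h1]
  norm_num

end

/-! ### existence -/

open Cfsg.Agent.H129 Cfsg.Agent.H129.TorusChar Cfsg.Agent.H129.TorusTw Cfsg.Agent.H129.WData Cfsg.Agent.H129.TorAct
open Cfsg.Agent.ChevalleyStructure

/-- **`G₂(4)` has an element of order seven with centraliser of order 21.** -/
theorem exists_seven {F : Type u} [Field F] [Fintype F] (hF : Fintype.card F = 4) :
    ∃ y : ↥(Cfsg.Lie.chevG2.group F), orderOf y = 7 ∧ Nat.card (Subgroup.centralizer ({y} : Set ↥(Cfsg.Lie.chevG2.group F))) = 21 := by
  have hp : Nodes.RGDChev.IsType Cfsg.Lie.chevG2 2 CoxeterMatrix.G₂ := by simp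
  have hW : Nat.card CoxeterMatrix.G₂.Group = 12 :=
    Cfsg.Agent.S1092.result (⟨2, CoxeterMatrix.G₂⟩, 12) (by simp)
  have : Finite CoxeterMatrix.G₂.Group := Nat.finite_of_card_ne_zero (by rw [hW]; norm_num)
  obtain ⟨T, h1, h3, h4, h5, -⟩ := UntwT.untw_T hp CoxeterMatrix.G₂.toCoxeterSystem (by norm_num) hF
    TorusChar.invC_G2 one_ne_zero DataG2.hA DataG2.chainOK DataG2.cycOK DataG2.rootOK (N := 21)
    (by rw [DataG2.fN_eq]; norm_num) (by decide) (d := 1) (Or.inl rfl)
  have hT : Nat.card T = 21 := Nat.dvd_antisymm h3 (by simpa using h4)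
  have h7 := fact_seven
  obtain ⟨⟨y, hy⟩, hyr⟩ := exists_prime_orderOf_dvd_card' (G := T) 7 (by rw [hT]; norm_num)
  rw [Subgroup.orderOf_mk] at hyr
  refine ⟨y, hyr, ?_⟩
  have hG : ∀ s, ¬ ((7 : ℕ) : ℤ) ∣ Gq DataG2.B ((4 : ℕ) : ℤ) (DataG2.R s) := by
    intro s hs
    rcases DataG2.dvd_of_G (x := ((4 : ℕ) : ℤ)) (by norm_num) s hs with h | h
    · norm_num at h
    · norm_num at h
  have h6 := h5 7 (by norm_num) (by rw [hW]; norm_num) hG y hy hyr
  have h8 : T ≤ Subgroup.centralizer ({y} : Set ↥(Cfsg.Lie.chevG2.group F)) := by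
    intro z hz
    rw [Subgroup.mem_centralizer_singleton_iff]
    have := (IsCyclic.commGroup (α := T)).mul_comm ⟨z, hz⟩ ⟨y, hy⟩
    exact congrArg Subtype.val this
  rw [le_antisymm h6 h8, hT]

end Cfsg.Agent.H686.Four.GTwoSeven
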